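import Groth.Agent.S5005
import Groth.Agent.Lib.OmegaUniv.Stalk
import Groth.Agent.Lib.OmegaSheaf.Basic
import Groth.Agent.Lib.QCoh.Affine
import Groth.Prelude.Def_OmAff
import Mathlib.RingTheory.Etale.Kaehler

/-!
# The comparison map for differentials on affine opens
-/

set_option autoImplicit false
set_option linter.style.haveILetI false
set_option backward.isDefEq.respectTransparency false

universe u

open CategoryTheory AlgebraicGeometry Opposite TopologicalSpace

namespace GrothLib.OmAff9

section Ring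

variable (A A' B O : Type u) [CommRing A] [CommRing A'] [CommRing B] [CommRing O]
  [Algebra A A'] [Algebra A B] [Algebra A O] [Algebra A' O] [Algebra B O]
  [IsScalarTower A A' O] [IsScalarTower A B O] [SMulCommClass A' B O]

theorem map_base_bijective (M : Submonoid A) [IsLocalization M A'] :
    Function.Bijective (KaehlerDifferential.map A A' O O) := by
  refine ⟨?_, KaehlerDifferential.map_surjective A A' O⟩
  have h : Subsingleton (KaehlerDifferential A A') :=
    (Algebra.FormallyUnramified.of_isLocalization (Rₘ := A') M).1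
  rw [← LinearMap.ker_eq_bot, (KaehlerDifferential.exact_mapBaseChange_map A A' O).linearMap_ker_eq,
    LinearMap.range_eq_bot]
  exact LinearMap.ext fun z ↦ by
    obtain rfl : z = 0 := Subsingleton.elim _ _
    simp

theorem isLocalizedModule_map_local (M : Submonoid A) [IsLocalization M A'] (N : Submonoid B)
    [IsLocalization N O] :
    IsLocalizedModule N (KaehlerDifferential.map A A' B O) := by
  let e : KaehlerDifferential A O ≃ₗ[B] KaehlerDifferential A' O :=
    (LinearEquiv.ofBijective (KaehlerDifferential.map A A' O O)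
      (map_base_bijective A A' O M)).restrictScalars B
  have he : KaehlerDifferential.map A A' B O =
      e.toLinearMap.comp (KaehlerDifferential.map A A B O) := by
    refine Derivation.liftKaehlerDifferential_unique _ _ (Derivation.ext fun b ↦ ?_)
    simp [e]
  rw [he]
  exact IsLocalizedModule.of_linearEquiv N (KaehlerDifferential.map A A B O) e

end Ring

variable {X Y : Scheme.{u}} (f : X ⟶ Y)

theorem smul_res (M : X.Modules) {U : X.Opens} {x : X} (hx : x ∈ U) (r : Γ(X, U)) (m : Γ(M, U)) :
    OX.germ (DCoh.toP.obj M) U hx (r • m) =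
      X.presheaf.germ U x hx r • OX.germ (DCoh.toP.obj M) U hx m :=
  OX.germ_smul' (DCoh.toP.obj M) U hx r m

theorem bijective_toSect [QuasiSeparated f] {U : X.Opens} {V : Y.Opens} (hU : IsAffineOpen U)
    (hV : IsAffineOpen V) (h : U ≤ f ⁻¹ᵁ V) : Function.Bijective (OmAff.toSect f V U h) := by
  have hd : OmegaSh.IsUniversal (OmegaSh.dOmega f) := Groth.Agent.S5005.result f
  let Ω := Omega.sheaf f
  have hqc : Ω.IsQuasicoherent := OmegaSheaf.isQuasicoherent_sheaf f
  letI algAB : Algebra Γ(Y, V) Γ(X, U) := (f.appLE V U h).hom.toAlgebra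
  have hd_toSect : ∀ b : Γ(X, U), OmAff.toSect f V U h (CommRingCat.KaehlerDifferential.d b) =
      OmegaSh.dSect f U b := OmAff.toSect_d f V U h
  -- the comparison with the differentials of the local rings
  have local_data : ∀ (x : X) (hx : x ∈ U),
      (∀ z, OX.germ (DCoh.toP.obj Ω) U hx (OmAff.toSect f V U h z) = 0 →
        ∃ s : Γ(X, U), IsUnit (X.presheaf.germ U x hx s) ∧ s • z = 0) ∧
      (∀ t : Γ(Ω, U), ∃ (s : Γ(X, U)) (z : CommRingCat.KaehlerDifferential (f.appLE V U h)),
        IsUnit (X.presheaf.germ U x hx s) ∧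
          OX.germ (DCoh.toP.obj Ω) U hx (s • t) =
            OX.germ (DCoh.toP.obj Ω) U hx (OmAff.toSect f V U h z)) := by
    intro x hx
    letI algB : Algebra Γ(X, U) (X.presheaf.stalk x) := (X.presheaf.germ U x hx).hom.toAlgebra
    letI algA' : Algebra Γ(Y, V) (Y.presheaf.stalk (f x)) :=
      (Y.presheaf.germ V (f x) (h hx)).hom.toAlgebra
    letI algA'O : Algebra (Y.presheaf.stalk (f x)) (X.presheaf.stalk x) := OmegaUniv.stalkAlg f x
    letI algAO : Algebra Γ(Y, V) (X.presheaf.stalk x) :=
      (f.appLE V U h ≫ X.presheaf.germ U x hx).hom.toAlgebra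
    haveI : IsScalarTower Γ(Y, V) Γ(X, U) (X.presheaf.stalk x) := IsScalarTower.of_algebraMap_eq' rfl
    haveI : IsScalarTower Γ(Y, V) (Y.presheaf.stalk (f x)) (X.presheaf.stalk x) := by
      refine IsScalarTower.of_algebraMap_eq' (congrArg CommRingCat.Hom.hom
        (?_ : f.appLE V U h ≫ X.presheaf.germ U x hx =
          Y.presheaf.germ V (f x) (h hx) ≫ f.stalkMap x))
      rw [f.germ_stalkMap, Scheme.Hom.appLE, Category.assoc, X.presheaf.germ_res]
    haveI : IsLocalization (hV.primeIdealOf ⟨f x, h hx⟩).asIdeal.primeCompl (Y.presheaf.stalk (f x)) :=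
      hV.isLocalization_stalk ⟨f x, h hx⟩
    haveI : IsLocalization (hU.primeIdealOf ⟨x, hx⟩).asIdeal.primeCompl (X.presheaf.stalk x) :=
      hU.isLocalization_stalk ⟨x, hx⟩
    let N := KaehlerDifferential.map Γ(Y, V) (Y.presheaf.stalk (f x)) Γ(X, U) (X.presheaf.stalk x)
    haveI hN : IsLocalizedModule (hU.primeIdealOf ⟨x, hx⟩).asIdeal.primeCompl N :=
      isLocalizedModule_map_local _ _ _ _ (hV.primeIdealOf ⟨f x, h hx⟩).asIdeal.primeCompl _
    let E := OmegaUniv.stalkEquiv x hd
    have key : ∀ z : CommRingCat.KaehlerDifferential (f.appLE V U h),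
        E (OX.germ (DCoh.toP.obj Ω) U hx (OmAff.toSect f V U h z)) = N z := by
      intro z
      have hz : z ∈ Submodule.span Γ(X, U)
          (Set.range (KaehlerDifferential.D Γ(Y, V) Γ(X, U))) := by
        rw [KaehlerDifferential.span_range_derivation]; trivial
      induction hz using Submodule.span_induction with
      | mem y hy =>
        obtain ⟨b, rfl⟩ := hy
        rw [KaehlerDifferential.map_D]
        exact (congrArg (fun m ↦ E (OX.germ (DCoh.toP.obj Ω) U hx m)) (hd_toSect b)).trans
          (OmegaUniv.stalkEquiv_dg x hd U hx b)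
      | zero =>
        exact (Eq.trans (congrArg (fun m ↦ E (OX.germ (DCoh.toP.obj Ω) U hx m))
          (map_zero (OmAff.toSect f V U h).hom)) ((congrArg E (map_zero _)).trans (map_zero E))).trans
            (map_zero N).symm
      | add a b _ _ ha hb =>
        exact (Eq.trans (congrArg (fun m ↦ E (OX.germ (DCoh.toP.obj Ω) U hx m))
          ((OmAff.toSect f V U h).hom.map_add a b)) ((congrArg E (map_add _ _ _)).trans
            ((map_add E _ _).trans (congrArg₂ (· + ·) ha hb)))).trans (map_add N a b).symm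
      | smul c a _ ha =>
        exact (Eq.trans (congrArg (fun m ↦ E (OX.germ (DCoh.toP.obj Ω) U hx m))
          ((OmAff.toSect f V U h).hom.map_smul c a)) ((congrArg E (smul_res Ω hx c _)).trans
            ((map_smul E _ _).trans ((congrArg (X.presheaf.germ U x hx c • ·) ha).trans
              (algebraMap_smul (X.presheaf.stalk x) c (N a)))))).trans (map_smul N c a).symm
    refine ⟨fun z hz ↦ ?_, fun t ↦ ?_⟩
    · have h0 : N z = N 0 := by rw [← key, hz, map_zero, map_zero]
      obtain ⟨c, hc⟩ := IsLocalizedModule.exists_of_eq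
        (S := (hU.primeIdealOf ⟨x, hx⟩).asIdeal.primeCompl) h0
      exact ⟨c.1, IsLocalization.map_units (X.presheaf.stalk x) c, hc.trans (smul_zero _)⟩
    · obtain ⟨⟨z, c⟩, hc⟩ := IsLocalizedModule.surj
        (hU.primeIdealOf ⟨x, hx⟩).asIdeal.primeCompl N (E (OX.germ (DCoh.toP.obj Ω) U hx t))
      refine ⟨c.1, z, IsLocalization.map_units (X.presheaf.stalk x) c, E.injective ?_⟩
      rw [key, smul_res Ω hx, map_smul, ← hc]
      exact algebraMap_smul (X.presheaf.stalk x) c.1 _
  have span_unit : ∀ J : Ideal Γ(X, U),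
      (∀ (x : X) (hx : x ∈ U), ∃ s ∈ J, IsUnit (X.presheaf.germ U x hx s)) → J = ⊤ := by
    intro J hJ
    by_contra hne
    obtain ⟨m, hm, hJm⟩ := Ideal.exists_le_maximal J hne
    let pt : Spec Γ(X, U) := ⟨m, hm.isPrime⟩
    have hxU : hU.fromSpec pt ∈ U := hU.range_fromSpec.le ⟨pt, rfl⟩
    obtain ⟨s, hsJ, hs⟩ := hJ _ hxU
    have h1 : hU.fromSpec pt ∈ X.basicOpen s := (X.mem_basicOpen s _ hxU).mpr hs
    have h2 : pt ∈ hU.fromSpec ⁻¹ᵁ X.basicOpen s := h1
    rw [hU.fromSpec_preimage_basicOpen] at h2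
    exact h2 (hJm hsJ)
  constructor
  · intro z z' hzz
    rw [← sub_eq_zero]
    have hz : OmAff.toSect f V U h (z - z') = 0 := by rw [map_sub, hzz, sub_self]
    generalize z - z' = w at hz ⊢
    let J : Ideal Γ(X, U) := LinearMap.ker (LinearMap.toSpanSingleton Γ(X, U) _ w)
    have hJ : J = ⊤ := span_unit J fun x hx ↦ by
      obtain ⟨s, hs, hsz⟩ := (local_data x hx).1 w (by rw [hz, map_zero])
      exact ⟨s, hsz, hs⟩
    have h1 : (1 : Γ(X, U)) ∈ J := by rw [hJ]; trivial
    simpa [J] using h1
  · intro t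
    let S : Submodule Γ(X, U) (OmAff.sectMod Ω U) := LinearMap.range (OmAff.toSect f V U h).hom
    let J : Ideal Γ(X, U) := S.comap (LinearMap.toSpanSingleton Γ(X, U) (OmAff.sectMod Ω U) t)
    have hJ : J = ⊤ := span_unit J fun x hx ↦ by
      obtain ⟨s, z, hs, hgerm⟩ := (local_data x hx).2 t
      obtain ⟨W, hxW, i₁, i₂, hW⟩ := TopCat.Presheaf.germ_eq (OX.prs (DCoh.toP.obj Ω)) x hx hx _ _ hgerm
      obtain ⟨g, hgW, hxg⟩ := hU.exists_basicOpen_le (V := W) ⟨x, hxW⟩ hx
      obtain ⟨n, hn⟩ := (QCoh.smulLift_and_smulSep_of_isAffineOpen hU Ω g).2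
        (s • t - OmAff.toSect f V U h z) (by
          have hW' : Ω.presheaf.map i₁.op (s • t - OmAff.toSect f V U h z) = 0 := by
            rw [map_sub, sub_eq_zero]
            exact hW.trans (by rw [Subsingleton.elim i₂ i₁]; rfl)
          rw [show (homOfLE (X.basicOpen_le g) : X.basicOpen g ⟶ U) = homOfLE hgW ≫ i₁ from rfl,
            op_comp, Functor.map_comp, CategoryTheory.comp_apply, hW', map_zero])
      refine ⟨g ^ n * s, ?_, ?_⟩
      · change (g ^ n * s) • t ∈ S
        refine ⟨g ^ n • z, ?_⟩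
        rw [map_smul]
        rw [smul_sub, sub_eq_zero] at hn
        rw [mul_smul]
        exact hn.symm
      · rw [map_mul, map_pow]
        exact ((((X.mem_basicOpen g x hx).mp hxg).pow n).mul hs)
    have h1 : (1 : Γ(X, U)) ∈ J := by rw [hJ]; trivial
    obtain ⟨z, hz⟩ : t ∈ S := by simpa [J] using h1
    exact ⟨z, hz⟩

theorem bijective_toSpec (A B : Type u) [CommRing A] [CommRing B] [Algebra A B] :
    Function.Bijective (OmAff.toSpec A B) := by
  let f := Spec.map (CommRingCat.ofHom (algebraMap A B))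
  have hb := bijective_toSect f (isAffineOpen_top (Spec (CommRingCat.of B)))
    (isAffineOpen_top (Spec (CommRingCat.of A))) (le_refl ⊤)
  letI algΓ : Algebra Γ(Spec (CommRingCat.of A), ⊤) Γ(Spec (CommRingCat.of B), ⊤) :=
    (f.appLE ⊤ ⊤ (le_refl ⊤)).hom.toAlgebra
  let eA : A ≃+* Γ(Spec (CommRingCat.of A), ⊤) :=
    (Scheme.ΓSpecIso (CommRingCat.of A)).symm.commRingCatIsoToRingEquiv
  let eB : B ≃+* Γ(Spec (CommRingCat.of B), ⊤) :=
    (Scheme.ΓSpecIso (CommRingCat.of B)).symm.commRingCatIsoToRingEquiv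
  have hsq : ∀ a, algebraMap Γ(Spec (CommRingCat.of A), ⊤) Γ(Spec (CommRingCat.of B), ⊤) (eA a) =
      eB (algebraMap A B a) := by
    intro a
    change f.appLE ⊤ ⊤ (le_refl ⊤) (OmAff.toΓ A a) = OmAff.toΓ B (algebraMap A B a)
    rw [← OmAff.appTop_toΓ]
    exact congrArg (fun φ : Γ(Spec (CommRingCat.of A), ⊤) ⟶ Γ(Spec (CommRingCat.of B), ⊤) ↦
      φ (OmAff.toΓ A a)) (Scheme.Hom.appLE_eq_app (f := f) (U := ⊤))
  letI modB' : Module B (KaehlerDifferential Γ(Spec (CommRingCat.of A), ⊤) Γ(Spec (CommRingCat.of B), ⊤)) :=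
    Module.compHom _ eB.toRingHom
  letI modA' : Module A (KaehlerDifferential Γ(Spec (CommRingCat.of A), ⊤) Γ(Spec (CommRingCat.of B), ⊤)) :=
    Module.compHom _ (eB.toRingHom.comp (algebraMap A B))
  haveI : IsScalarTower A B (KaehlerDifferential Γ(Spec (CommRingCat.of A), ⊤) Γ(Spec (CommRingCat.of B), ⊤)) :=
    ⟨fun a b m => by
      change eB (a • b) • m = eB (algebraMap A B a) • (eB b • m)
      rw [Algebra.smul_def, map_mul, mul_smul]⟩
  let D₁ : Derivation A B (KaehlerDifferential Γ(Spec (CommRingCat.of A), ⊤) Γ(Spec (CommRingCat.of B), ⊤)) :=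
    Derivation.mk'
      { toFun := fun b => KaehlerDifferential.D _ _ (eB b)
        map_add' := fun a b => by rw [map_add, map_add]
        map_smul' := fun a b => by
          change KaehlerDifferential.D _ _ (eB (a • b)) = eB (algebraMap A B a) • _
          rw [Algebra.smul_def, map_mul, Derivation.leibniz, ← hsq, Derivation.map_algebraMap,
            smul_zero, add_zero] }
      (fun a b => by
        change KaehlerDifferential.D _ _ (eB (a * b)) = eB a • _ + eB b • _
        rw [map_mul, Derivation.leibniz]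
        rfl)
  let φ := D₁.liftKaehlerDifferential
  letI modB₂ : Module Γ(Spec (CommRingCat.of B), ⊤) (KaehlerDifferential A B) :=
    Module.compHom _ eB.symm.toRingHom
  letI modA₂ : Module Γ(Spec (CommRingCat.of A), ⊤) (KaehlerDifferential A B) :=
    Module.compHom _ (eB.symm.toRingHom.comp (algebraMap Γ(Spec (CommRingCat.of A), ⊤) Γ(Spec (CommRingCat.of B), ⊤)))
  haveI : IsScalarTower Γ(Spec (CommRingCat.of A), ⊤) Γ(Spec (CommRingCat.of B), ⊤) (KaehlerDifferential A B) :=
    ⟨fun a b m => by
      change eB.symm (a • b) • m = eB.symm (algebraMap _ _ a) • (eB.symm b • m)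
      rw [Algebra.smul_def, map_mul, mul_smul]⟩
  let D₂ : Derivation Γ(Spec (CommRingCat.of A), ⊤) Γ(Spec (CommRingCat.of B), ⊤) (KaehlerDifferential A B) :=
    Derivation.mk'
      { toFun := fun b => KaehlerDifferential.D A B (eB.symm b)
        map_add' := fun a b => by rw [map_add, map_add]
        map_smul' := fun a b => by
          change KaehlerDifferential.D A B (eB.symm (a • b)) = eB.symm (algebraMap _ _ a) • _
          obtain ⟨a', rfl⟩ := eA.surjective a
          rw [Algebra.smul_def, map_mul, hsq, eB.symm_apply_apply, Derivation.leibniz,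
            Derivation.map_algebraMap, smul_zero, add_zero] }
      (fun a b => by
        change KaehlerDifferential.D A B (eB.symm (a * b)) = eB.symm a • _ + eB.symm b • _
        rw [map_mul, Derivation.leibniz]
        rfl)
  let ψ := D₂.liftKaehlerDifferential
  have hφ : ∀ b, φ (KaehlerDifferential.D A B b) = KaehlerDifferential.D _ _ (eB b) :=
    D₁.liftKaehlerDifferential_comp_D
  have hψ : ∀ b, ψ (KaehlerDifferential.D _ _ b) = KaehlerDifferential.D A B (eB.symm b) :=
    D₂.liftKaehlerDifferential_comp_D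
  have hψφ : ∀ z, ψ (φ z) = z := by
    intro z
    have hz : z ∈ Submodule.span B (Set.range (KaehlerDifferential.D A B)) := by
      rw [KaehlerDifferential.span_range_derivation]; trivial
    induction hz using Submodule.span_induction with
    | mem y hy => obtain ⟨b, rfl⟩ := hy; rw [hφ, hψ, eB.symm_apply_apply]
    | zero => rw [map_zero, map_zero]
    | add a b _ _ ha hb => rw [map_add, map_add, ha, hb]
    | smul c a _ ha =>
      rw [map_smul]
      change ψ (eB c • φ a) = _
      rw [map_smul]
      change eB.symm (eB c) • ψ (φ a) = _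
      rw [eB.symm_apply_apply, ha]
  have hφψ : ∀ z, φ (ψ z) = z := by
    intro z
    have hz : z ∈ Submodule.span Γ(Spec (CommRingCat.of B), ⊤)
        (Set.range (KaehlerDifferential.D Γ(Spec (CommRingCat.of A), ⊤) Γ(Spec (CommRingCat.of B), ⊤))) := by
      rw [KaehlerDifferential.span_range_derivation]; trivial
    induction hz using Submodule.span_induction with
    | mem y hy => obtain ⟨b, rfl⟩ := hy; rw [hψ, hφ, eB.apply_symm_apply]
    | zero => rw [map_zero, map_zero]
    | add a b _ _ ha hb => rw [map_add, map_add, ha, hb]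
    | smul c a _ ha =>
      rw [map_smul]
      change φ (eB.symm c • ψ a) = _
      rw [map_smul]
      change eB (eB.symm c) • φ (ψ a) = _
      rw [eB.apply_symm_apply, ha]
  have hcomp : ∀ z, OmAff.toSect f ⊤ ⊤ (le_refl ⊤) (φ z) = OmAff.toSpec A B z := by
    intro z
    have hz : z ∈ Submodule.span B (Set.range (KaehlerDifferential.D A B)) := by
      rw [KaehlerDifferential.span_range_derivation]; trivial
    induction hz using Submodule.span_induction with
    | mem y hy =>
      obtain ⟨b, rfl⟩ := hy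
      rw [hφ, OmAff.toSpec_D]
      exact OmAff.toSect_d f ⊤ ⊤ (le_refl ⊤) (eB b)
    | zero => rw [map_zero, map_zero, map_zero]
    | add a b _ _ ha hb =>
      exact ((congrArg (fun m ↦ OmAff.toSect f ⊤ ⊤ (le_refl ⊤) m) (map_add φ a b)).trans
        ((OmAff.toSect f ⊤ ⊤ (le_refl ⊤)).hom.map_add _ _)).trans
          ((congrArg₂ (· + ·) ha hb).trans (map_add (OmAff.toSpec A B) a b).symm)
    | smul c a _ ha =>
      rw [map_smul, LinearMap.map_smulₛₗ]
      exact ((OmAff.toSect f ⊤ ⊤ (le_refl ⊤)).hom.map_smul (eB c) (φ a)).trans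
        (congrArg (OmAff.toΓ B c • ·) ha)
  have : (OmAff.toSpec A B : _ → _) = (fun z ↦ OmAff.toSect f ⊤ ⊤ (le_refl ⊤) z) ∘ φ :=
    funext fun z ↦ (hcomp z).symm
  rw [this]
  exact hb.comp ⟨Function.LeftInverse.injective hψφ, Function.RightInverse.surjective hφψ⟩

end GrothLib.OmAff9
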